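import Mathlib
import Groth.Prelude.Def_MoreMor
import Groth.Agent.S0593

/-!
# Affine stratifications: construction and basic properties
-/

set_option autoImplicit false

universe u

open CategoryTheory CategoryTheory.Limits AlgebraicGeometry TopologicalSpace Opposite

noncomputable section

namespace AffStratLib

variable {X : Scheme.{u}}

/-- `A` is a closed subset of the affine open `D`: the reduced stratum on `A`. -/
theorem exists_stratum (D : X.Opens) (hD : IsAffineOpen D) (A : Set X) (hAD : A ⊆ D)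
    (hA : ∃ C : Set X, IsClosed C ∧ A = (D : Set X) ∩ C) :
    ∃ (Z : Scheme.{u}) (ι : Z ⟶ X), IsImmersion ι ∧ IsAffine Z ∧ Set.range ι = A := by
  obtain ⟨C, hC, hAC⟩ := hA
  haveI : IsAffine D := hD
  let C' : Closeds (D : Scheme.{u}) := ⟨D.ι ⁻¹' C, hC.preimage D.ι.continuous⟩
  let I : (D : Scheme.{u}).IdealSheafData := Scheme.IdealSheafData.vanishingIdeal C'
  refine ⟨I.subscheme, I.subschemeι ≫ D.ι, inferInstance, isAffine_of_isAffineHom I.subschemeι, ?_⟩
  rw [show Set.range (I.subschemeι ≫ D.ι) = D.ι '' Set.range I.subschemeι from (Set.range_comp D.ι I.subschemeι),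
    I.range_subschemeι, Scheme.IdealSheafData.coe_support_vanishingIdeal]
  change D.ι '' (D.ι ⁻¹' C) = A
  rw [Set.image_preimage_eq_inter_range, Scheme.Opens.range_ι, hAC, Set.inter_comm]

/-- An immersion with affine source is affine when it meets each member of an affine cover trivially. -/
theorem isAffineHom_of_all_or_none {Z : Scheme.{u}} (ι : Z ⟶ X) [IsAffine Z] {J : Type*} (U : J → X.Opens)
    (hU : ∀ j, IsAffineOpen (U j)) (hcov : ⨆ j, U j = ⊤)
    (h : ∀ j, Set.range ι ⊆ U j ∨ Disjoint (Set.range ι) (U j : Set X)) : IsAffineHom ι := by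
  refine isAffineHom_of_forall_exists_isAffineOpen ι fun x => ?_
  obtain ⟨j, hj⟩ := Opens.mem_iSup.1 (hcov.ge (Opens.mem_top x))
  refine ⟨U j, hj, hU j, ?_⟩
  rcases h j with h | h
  · rw [show ι ⁻¹ᵁ U j = ⊤ from top_le_iff.1 fun z _ => h ⟨z, rfl⟩]
    exact isAffineOpen_top Z
  · rw [show ι ⁻¹ᵁ U j = ⊥ from le_bot_iff.1 fun z hz => (Set.disjoint_left.1 h ⟨z, rfl⟩ hz).elim]
    exact isAffineOpen_bot Z

/-- The stratification attached to a finite sequence of affine opens: each point goes to the last member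
containing it. -/
theorem hasAffineStratification_of_seq (n : ℕ) (D : Fin (n + 1) → X.Opens) (hD : ∀ a, IsAffineOpen (D a))
    (hcov : ⨆ a, D a = ⊤)
    (h : ∀ (a : Fin (n + 1)) (Z : Scheme.{u}) (ι : Z ⟶ X), IsImmersion ι → IsAffine Z →
      Set.range ι = (D a : Set X) ∩ ⋂ b : {b // a < b}, (D b.1 : Set X)ᶜ → IsAffineHom ι) :
    MoreMor.HasAffineStratification X n := by
  classical
  have hne : ∀ x : X, (Finset.univ.filter fun a => x ∈ D a).Nonempty := fun x => by
    obtain ⟨a, ha⟩ := Opens.mem_iSup.1 (hcov.ge (Opens.mem_top x))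
    exact ⟨a, Finset.mem_filter.2 ⟨Finset.mem_univ _, ha⟩⟩
  let s : X → Fin (n + 1) := fun x => (Finset.univ.filter fun a => x ∈ D a).max' (hne x)
  have hs : ∀ x a, s x ≤ a ↔ ∀ b, a < b → x ∉ D b := fun x a => by
    refine (Finset.max'_le_iff _ _).trans ?_
    refine ⟨fun h b hb hx => absurd (h b (Finset.mem_filter.2 ⟨Finset.mem_univ _, hx⟩)) (not_le.2 hb),
      fun h b hb => ?_⟩
    by_contra hlt
    exact h b (not_le.1 hlt) (Finset.mem_filter.1 hb).2
  have hs' : ∀ x, x ∈ D (s x) := fun x => (Finset.mem_filter.1 (Finset.max'_mem _ (hne x))).2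
  refine ⟨s, fun a => ?_, fun a => ?_⟩
  · rw [show {x : X | s x ≤ a} = ⋂ b : {b // a < b}, (D b.1 : Set X)ᶜ from Set.ext fun x => by
      simp only [Set.mem_ofPred_eq, hs, Set.mem_iInter, Set.mem_compl_iff, SetLike.mem_coe, Subtype.forall]]
    exact isClosed_iInter fun b => (D b.1).2.isClosed_compl
  · obtain ⟨Z, ι, hι, hZ, hr⟩ := exists_stratum (D a) (hD a)
      ((D a : Set X) ∩ ⋂ b : {b // a < b}, (D b.1 : Set X)ᶜ) Set.inter_subset_left
      ⟨_, isClosed_iInter fun b : {b // a < b} => (D b.1).2.isClosed_compl, rfl⟩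
    refine ⟨Z, ι, hι, hZ, h a Z ι hι hZ hr, hr.trans (Set.ext fun x => ?_)⟩
    simp only [Set.mem_ofPred_eq, Set.mem_inter_iff, Set.mem_iInter, Set.mem_compl_iff, SetLike.mem_coe,
      Subtype.forall]
    constructor
    · rintro ⟨hx, hb⟩
      exact le_antisymm ((hs x a).2 hb) (Finset.le_max' _ a (Finset.mem_filter.2 ⟨Finset.mem_univ a, hx⟩))
    · rintro rfl
      exact ⟨hs' x, (hs x _).1 le_rfl⟩

/-- Separated schemes. -/
theorem hasAffineStratification_of_separated [X.IsSeparated] (n : ℕ) (U : Fin (n + 1) → X.Opens)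
    (hU : ∀ i, IsAffineOpen (U i)) (hcov : ⨆ i, U i = ⊤) : MoreMor.HasAffineStratification X n :=
  hasAffineStratification_of_seq n U hU hcov fun _ Z ι _ hZ _ => by
    haveI : IsSeparated (terminal.from X) := inferInstance
    haveI : IsAffineHom (ι ≫ terminal.from X) := by rw [terminal.comp_from]; infer_instance
    exact MorphismProperty.of_postcomp @IsAffineHom ι (terminal.from X) ‹_› ‹_›

/-- Quasi-compact quasi-separated schemes. -/
theorem exists_hasAffineStratification [CompactSpace X] [QuasiSeparatedSpace X] :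
    ∃ n, MoreMor.HasAffineStratification X n := by
  classical
  rcases isEmpty_or_nonempty X with hX | hX
  · exact ⟨0, hasAffineStratification_of_seq 0 (fun _ => ⊥) (fun _ => isAffineOpen_bot X)
      (Opens.ext (Set.ext fun x => isEmptyElim x)) fun _ Z ι _ _ _ =>
        isAffineHom_of_all_or_none ι (fun x : X => (⊥ : X.Opens)) (fun _ => isAffineOpen_bot X)
          (Opens.ext (Set.ext fun x => isEmptyElim x)) fun x => isEmptyElim x⟩
  choose A hA hxA _h using fun x : X => exists_isAffineOpen_mem_and_subset (x := x) (U := ⊤) trivial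
  obtain ⟨t, ht⟩ := isCompact_univ.elim_finite_subcover (fun x => (A x : Set X)) (fun x => (A x).2)
    fun x _ => Set.mem_iUnion.mpr ⟨x, hxA x⟩
  let US : Finset t → X.Opens := fun S => ⟨⋂ i ∈ S, (A i.1 : Set X), isOpen_biInter_finset fun i _ => (A i.1).2⟩
  have hUS : ∀ S : Finset t, IsCompact (US S : Set X) := fun S => by
    induction S using Finset.induction_on with
    | empty => simp only [US, Finset.notMem_empty, Set.iInter_of_empty, Set.iInter_univ]; exact isCompact_univ
    | insert i S _ ih =>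
      simp only [US, Finset.set_biInter_insert]
      exact QuasiSeparatedSpace.inter_isCompact _ _ (A i.1).2 (hA i.1).isCompact
        (isOpen_biInter_finset fun i _ => (A i.1).2) ih
  choose W hW hxW hWS using fun (S : Finset t) (x : (US S : Set X)) =>
    exists_isAffineOpen_mem_and_subset (x := x.1) (U := US S) x.2
  choose q hq using fun S : Finset t => (hUS S).elim_finite_subcover (fun x => (W S x : Set X)) (fun x => (W S x).2)
    fun x hx => Set.mem_iUnion.mpr ⟨⟨x, hx⟩, hxW S ⟨x, hx⟩⟩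
  let P : Finset (Σ S : Finset t, (US S : Set X)) := Finset.univ.sigma q
  let L := P.toList.insertionSort (fun a b => a.1.card ≤ b.1.card)
  have hperm : L.Perm P.toList := List.perm_insertionSort _ _
  have hmem : ∀ p, p ∈ L ↔ p ∈ P := fun p => by rw [hperm.mem_iff, Finset.mem_toList]
  haveI : IsTotal (Σ S : Finset t, (US S : Set X)) (fun a b => a.1.card ≤ b.1.card) := ⟨fun a b => le_total _ _⟩
  haveI : IsTrans (Σ S : Finset t, (US S : Set X)) (fun a b => a.1.card ≤ b.1.card) := ⟨fun a b c => le_trans⟩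
  have hsort : L.Pairwise (fun a b => a.1.card ≤ b.1.card) := List.pairwise_insertionSort _ _
  obtain ⟨x₀⟩ := hX
  let St : X → Finset t := fun x => Finset.univ.filter fun i => x ∈ A i.1
  have hSt : ∀ x, ∃ p ∈ L, p.1 = St x ∧ x ∈ W p.1 p.2 := fun x => by
    have hx : x ∈ (US (St x) : Set X) := Set.mem_iInter₂.2 fun i hi => (Finset.mem_filter.1 hi).2
    obtain ⟨y, hy, hxy⟩ := Set.mem_iUnion₂.1 (hq (St x) hx)
    exact ⟨⟨St x, y⟩, (hmem _).2 (Finset.mem_sigma.2 ⟨Finset.mem_univ _, hy⟩), rfl, hxy⟩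
  obtain ⟨n, hn⟩ : ∃ n, L.length = n + 1 :=
    ⟨L.length - 1, by obtain ⟨p, hp, -⟩ := hSt x₀; have := List.length_pos_of_mem hp; omega⟩
  let f : Fin (n + 1) → Σ S : Finset t, (US S : Set X) := fun a => L.get (a.cast hn.symm)
  refine ⟨n, hasAffineStratification_of_seq n (fun a => W (f a).1 (f a).2) (fun a => hW _ _) ?_ ?_⟩
  · refine top_le_iff.1 fun x _ => ?_
    obtain ⟨p, hp, -, hxp⟩ := hSt x
    obtain ⟨a, ha⟩ := List.get_of_mem hp
    refine Opens.mem_iSup.2 ⟨a.cast hn, ?_⟩
    change x ∈ W (L.get a).1 (L.get a).2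
    rw [ha]
    exact hxp
  · intro a Z ι _ _ hr
    have key : ∀ x ∈ Set.range ι, St x = (f a).1 := fun x hx => by
      rw [hr] at hx
      have hsub : (f a).1 ⊆ St x := fun i hi => Finset.mem_filter.2
        ⟨Finset.mem_univ _, Set.mem_iInter₂.1 (hWS _ _ hx.1) i hi⟩
      obtain ⟨p, hp, hpS, hxp⟩ := hSt x
      obtain ⟨b, hb⟩ := List.get_of_mem hp
      refine (Finset.eq_of_subset_of_card_le hsub ?_).symm
      rcases le_or_gt (b.cast hn) a with hle | hlt
      · rcases hle.lt_or_eq with hlt | heq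
        · have := List.pairwise_iff_get.1 hsort b (a.cast hn.symm) hlt
          rw [hb, hpS] at this
          exact this
        · rw [← hpS, ← hb, ← heq]
          exact le_rfl
      · exfalso
        refine (Set.mem_iInter.1 hx.2 ⟨b.cast hn, hlt⟩) ?_
        change x ∈ W (L.get b).1 (L.get b).2
        rw [hb]
        exact hxp
    refine isAffineHom_of_all_or_none ι (fun i : t => A i.1) (fun i => hA i.1) (top_le_iff.1 fun x _ => ?_) fun i => ?_
    · obtain ⟨i, hi, hxi⟩ := Set.mem_iUnion₂.1 (ht (Set.mem_univ x))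
      exact Opens.mem_iSup.2 ⟨⟨i, hi⟩, hxi⟩
    · by_cases hi : i ∈ (f a).1
      · refine Or.inl fun x hx => ?_
        rw [← key x hx] at hi
        exact (Finset.mem_filter.1 hi).2
      · refine Or.inr (Set.disjoint_left.2 fun x hx hxi => hi ?_)
        rw [← key x hx]
        exact Finset.mem_filter.2 ⟨Finset.mem_univ _, hxi⟩

/-- A scheme with an affine stratification is quasi-compact. -/
theorem compactSpace {n : ℕ} (h : MoreMor.HasAffineStratification X n) : CompactSpace X := by
  obtain ⟨s, -, hs⟩ := h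
  choose Z ι hι hZ haff hr using hs
  refine ⟨?_⟩
  rw [show (Set.univ : Set X) = ⋃ i, Set.range (ι i) from
    (Set.eq_univ_of_forall fun x => Set.mem_iUnion.2 ⟨s x, by rw [hr]; exact rfl⟩).symm]
  exact isCompact_iUnion fun i => haveI := hZ i; isCompact_range (ι i).continuous

/-- A scheme with an affine stratification is quasi-separated. -/
theorem quasiSeparatedSpace {n : ℕ} (h : MoreMor.HasAffineStratification X n) : QuasiSeparatedSpace X := by
  obtain ⟨s, -, hs⟩ := h
  choose Z ι hι hZ haff hr using hs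
  rw [quasiSeparatedSpace_iff_forall_affineOpens]
  intro U V
  rw [show (U.1 : Set X) ∩ V.1 = ⋃ i, ι i '' ((ι i ⁻¹ᵁ U.1 : Set (Z i)) ∩ (ι i ⁻¹ᵁ V.1 : Set (Z i))) from
    Set.ext fun x => ⟨fun hx => by
      obtain ⟨z, hz⟩ : x ∈ Set.range (ι (s x)) := by rw [hr]; exact rfl
      exact Set.mem_iUnion.2 ⟨_, z, by rw [← hz] at hx; exact hx, hz⟩,
      fun hx => by obtain ⟨i, z, hz, rfl⟩ := Set.mem_iUnion.1 hx; exact hz⟩]
  refine isCompact_iUnion fun i => IsCompact.image ?_ (ι i).continuous
  haveI := hZ i; haveI := haff i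
  exact QuasiSeparatedSpace.inter_isCompact _ _ (ι i ⁻¹ᵁ U.1).2 (U.2.preimage (ι i)).isCompact
    (ι i ⁻¹ᵁ V.1).2 (V.2.preimage (ι i)).isCompact

/-- Adding an open stratum on top of a closed stratification. -/
theorem hasAffineStratification_succ {Y : Scheme.{u}} (i : Y ⟶ X) [IsClosedImmersion i] {n : ℕ}
    (hY : MoreMor.HasAffineStratification Y n) (W : X.Opens) (hW : IsAffineOpen W) (hWa : IsAffineHom W.ι)
    (hr : Set.range i = (W : Set X)ᶜ) : MoreMor.HasAffineStratification X (n + 1) := by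
  classical
  obtain ⟨s, hs, hZ⟩ := hY
  have hout : ∀ x : X, x ∉ W → ∃ y, i y = x := fun x hx => hr.ge hx
  choose g hg using hout
  have hgi : ∀ y : Y, ∃ h : i y ∉ W, g (i y) h = y := fun y =>
    ⟨hr.le ⟨y, rfl⟩, i.isClosedEmbedding.injective (hg _ _)⟩
  let t : X → Fin (n + 2) := fun x => if hx : x ∈ W then Fin.last (n + 1) else (s (g x hx)).castSucc
  refine ⟨t, fun a => ?_, fun a => ?_⟩ <;> induction a using Fin.lastCases with
    | last => ?_
    | cast j => ?_
  · simp [Fin.le_last]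
  · rw [show {x | t x ≤ j.castSucc} = i '' {y | s y ≤ j} from Set.ext fun x => ?_]
    · exact i.isClosedEmbedding.isClosedMap _ (hs j)
    refine ⟨fun hx => ?_, ?_⟩
    · simp only [Set.mem_ofPred_eq, t] at hx
      split_ifs at hx with hxW
      · exact absurd hx (not_le.2 (Fin.castSucc_lt_last j))
      · exact ⟨g x hxW, Fin.castSucc_le_castSucc_iff.1 hx, hg x hxW⟩
    · rintro ⟨y, hy, rfl⟩
      obtain ⟨h, he⟩ := hgi y
      simp only [Set.mem_ofPred_eq, t, dif_neg h, he]
      exact Fin.castSucc_le_castSucc_iff.2 hy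
  · refine ⟨W, W.ι, inferInstance, hW, hWa, Set.ext fun x => ?_⟩
    rw [Scheme.Opens.range_ι]
    simp only [Set.mem_ofPred_eq, SetLike.mem_coe, t]
    split_ifs with hxW
    · exact iff_of_true hxW rfl
    · exact iff_of_false hxW (Fin.castSucc_lt_last _).ne
  · obtain ⟨Z, ι, hι, hZa, hιa, hrZ⟩ := hZ j
    refine ⟨Z, ι ≫ i, inferInstance, hZa, inferInstance, Set.ext fun x => ?_⟩
    rw [show Set.range (ι ≫ i) = i '' Set.range ι from (Set.range_comp i ι), hrZ]
    refine ⟨?_, fun hx => ?_⟩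
    · rintro ⟨y, hy, rfl⟩
      obtain ⟨h, he⟩ := hgi y
      simp only [Set.mem_ofPred_eq, t, dif_neg h, he]
      exact congrArg Fin.castSucc hy
    · simp only [Set.mem_ofPred_eq, t] at hx
      split_ifs at hx with hxW
      · exact absurd hx (Fin.castSucc_lt_last j).ne'
      · exact ⟨g x hxW, Fin.castSucc_injective _ hx, hg x hxW⟩

/-- Splitting off the top stratum. -/
theorem exists_top_stratum {n : ℕ} (h : MoreMor.HasAffineStratification X n) :
    ∃ U : X.Opens, IsAffineOpen U ∧ IsAffineHom U.ι ∧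
      (n = 0 → U = ⊤) ∧
      ∀ (m : ℕ), n = m + 1 → ∀ (Y : Scheme.{u}) (i : Y ⟶ X), IsClosedImmersion i →
        Set.range i = (U : Set X)ᶜ → MoreMor.HasAffineStratification Y m := by
  obtain ⟨s, hs, hst⟩ := h
  obtain ⟨Z, ι, hι, hZ, hιa, hr⟩ := hst (Fin.last n)
  let U : X.Opens := ⟨{x | s x = Fin.last n}, by
    have e : {x : X | s x = Fin.last n} = (⋃ j : {j : Fin (n + 1) // j ≠ Fin.last n}, {x | s x ≤ j.1})ᶜ :=
      Set.ext fun x => by
        simp only [Set.mem_ofPred_eq, Set.mem_compl_iff, Set.mem_iUnion, not_exists, not_le]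
        refine ⟨fun hx j => by rw [hx]; exact Fin.lt_last_iff_ne_last.2 j.2, fun hx => ?_⟩
        by_contra hne
        exact lt_irrefl _ (hx ⟨s x, hne⟩)
    rw [e]
    exact (isClosed_iUnion_of_finite fun j : {j : Fin (n + 1) // j ≠ Fin.last n} => hs j.1).isOpen_compl⟩
  have hle : Set.range ι ⊆ Set.range U.ι := by rw [hr, Scheme.Opens.range_ι]; exact subset_rfl
  let l := IsOpenImmersion.lift U.ι ι hle
  have hl : l ≫ U.ι = ι := IsOpenImmersion.lift_fac U.ι ι hle
  haveI : IsPreimmersion (l ≫ U.ι) := hl ▸ inferInstance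
  haveI : IsPreimmersion l := IsPreimmersion.of_comp l U.ι
  have hsurj : Function.Surjective l := fun y => by
    obtain ⟨z, hz⟩ : U.ι y ∈ Set.range ι := hr.ge y.2
    exact ⟨z, U.ι.isOpenEmbedding.injective (by rw [← hz, ← hl]; rfl)⟩
  haveI : Surjective l := ⟨hsurj⟩
  haveI : IsClosedImmersion l := .of_isPreimmersion _ (by rw [hsurj.range_eq]; exact isClosed_univ)
  haveI : IsAffine (U : Scheme.{u}) := Groth.Agent.S0593.result Z U l
  refine ⟨U, ‹_›, isAffineHom_of_forall_exists_isAffineOpen U.ι fun x => ?_, fun h0 => ?_, fun m hm Y i hi hY => ?_⟩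
  · obtain ⟨V, hV, hxV, -⟩ := exists_isAffineOpen_mem_and_subset (x := x) (U := ⊤) trivial
    refine ⟨V, hxV, hV, ?_⟩
    let q := l ∣_ (U.ι ⁻¹ᵁ V)
    haveI : IsClosedImmersion q := IsZariskiLocalAtTarget.restrict ‹_› _
    haveI : Surjective q := IsZariskiLocalAtTarget.restrict ‹_› _
    haveI : IsAffine (l ⁻¹ᵁ (U.ι ⁻¹ᵁ V) : Scheme.{u}) := by
      rw [← Scheme.Hom.comp_preimage, hl]
      exact hV.preimage ι
    exact Groth.Agent.S0593.result _ _ q
  · subst h0
    exact top_le_iff.1 fun x _ => Subsingleton.elim (α := Fin 1) _ _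
  · subst hm
    have hne : ∀ y : Y, s (i y) ≠ Fin.last (m + 1) := fun y h => hY.le ⟨y, rfl⟩ h
    refine ⟨fun y => (s (i y)).castPred (hne y), fun j => ?_, fun j => ?_⟩
    · rw [show {y : Y | (s (i y)).castPred (hne y) ≤ j} = i ⁻¹' {x | s x ≤ j.castSucc} from Set.ext fun y => by
        simp only [Set.mem_ofPred_eq, Set.mem_preimage, Fin.castPred_le_iff]]
      exact (hs _).preimage i.continuous
    · obtain ⟨Z', ι', hι', hZ', hιa', hr'⟩ := hst j.castSucc
      haveI : IsClosedImmersion (pullback.fst ι' i) := MorphismProperty.pullback_fst _ _ hi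
      haveI : IsAffineHom (pullback.snd ι' i) := MorphismProperty.pullback_snd _ _ hιa'
      haveI : IsImmersion (pullback.snd ι' i) := MorphismProperty.pullback_snd _ _ hι'
      refine ⟨pullback ι' i, pullback.snd ι' i, inferInstance,
        isAffine_of_isAffineHom (pullback.fst ι' i), inferInstance, ?_⟩
      rw [Scheme.Pullback.range_snd, hr']
      ext y
      simp only [Set.mem_preimage, Set.mem_ofPred_eq, Fin.castPred_eq_iff_eq_castSucc]

end AffStratLib

end
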