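import Mathlib
import Groth.Agent.AffStratLib.Basic

/-!
# Affine stratifications of noetherian schemes of finite dimension
-/

set_option autoImplicit false

universe u

open CategoryTheory CategoryTheory.Limits AlgebraicGeometry TopologicalSpace Opposite

noncomputable section

namespace AffStratLib

/-- A dense affine open with affine inclusion. -/
theorem exists_dense_affine (X : Scheme.{u}) [CompactSpace X] (hirr : (irreducibleComponents ↥X).Finite) :
    ∃ U : X.Opens, IsAffineOpen U ∧ IsAffineHom U.ι ∧ Dense (U : Set X) := by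
  classical
  choose A hA hxA _h using fun x : X => exists_isAffineOpen_mem_and_subset (x := x) (U := ⊤) trivial
  obtain ⟨s, hs⟩ := isCompact_univ.elim_finite_subcover (fun x => (A x : Set X)) (fun x => (A x).2)
    fun x _ => Set.mem_iUnion.mpr ⟨x, hxA x⟩
  let C := irreducibleComponents ↥X
  let η : C → X := fun c => IsIrreducible.genericPoint c.2.1
  have hη : ∀ c : C, closure ({η c} : Set X) = c.1 := fun c =>
    IsIrreducible.closure_genericPoint c.2.1 (isClosed_of_mem_irreducibleComponents c.1 c.2)
  have hηc : ∀ c : C, η c ∈ c.1 := fun c => (hη c).subset (subset_closure (Set.mem_singleton _))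
  have hmax : ∀ c c' : C, η c ∈ c'.1 → c = c' := fun c c' h => by
    have h1 : c.1 ⊆ c'.1 := (hη c).symm.subset.trans
      ((isClosed_of_mem_irreducibleComponents c'.1 c'.2).closure_subset_iff.2 (Set.singleton_subset_iff.2 h))
    exact Subtype.ext (Set.Subset.antisymm h1 (c.2.2 c'.2.1 h1))
  haveI : Finite C := hirr.to_subtype
  have hcomp : ∀ x : X, ∃ c : C, x ∈ c.1 := fun x => by
    obtain ⟨D, hD, hxD⟩ := Set.mem_sUnion.1 ((sUnion_irreducibleComponents (X := ↥X)).ge (Set.mem_univ x))
    exact ⟨⟨D, hD⟩, hxD⟩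
  let O : C → X.Opens := fun c =>
    ⟨(⋃ c' : {c' : C // c' ≠ c}, (c'.1.1 : Set X))ᶜ ∩ ⋂ i : {i : X // i ∈ s ∧ η c ∈ A i}, (A i.1 : Set X), by
      haveI : Finite {i : X // i ∈ s ∧ η c ∈ A i} :=
        ((s.finite_toSet).subset fun i (hi : i ∈ {i : X | i ∈ s ∧ η c ∈ A i}) => hi.1).to_subtype
      exact ((isClosed_iUnion_of_finite fun c' : {c' : C // c' ≠ c} =>
        isClosed_of_mem_irreducibleComponents _ c'.1.2).isOpen_compl).inter (isOpen_iInter_of_finite fun i => (A i.1).2)⟩
  have hηO : ∀ c, η c ∈ O c := fun c => ⟨fun h => by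
    obtain ⟨c', hc'⟩ := Set.mem_iUnion.1 h
    exact c'.2 (hmax c c'.1 hc').symm, Set.mem_iInter.2 fun i => i.2.2⟩
  choose W hW hηW hWO using fun c => exists_isAffineOpen_mem_and_subset (hηO c)
  have hWc : ∀ c, ∀ x ∈ W c, x ∈ c.1 ∧ ∀ c' : C, x ∈ c'.1 → c' = c := by
    intro c x hx
    have h1 : ∀ c' : C, x ∈ c'.1 → c' = c := fun c' h' => by
      by_contra hne
      exact (hWO c hx).1 (Set.mem_iUnion.2 ⟨⟨c', hne⟩, h'⟩)
    obtain ⟨D, hD⟩ := hcomp x
    exact ⟨h1 D hD ▸ hD, h1⟩
  have hdisj : ∀ c c', c ≠ c' → Disjoint (W c) (W c') := fun c c' hne => by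
    rw [← Opens.coe_disjoint, Set.disjoint_left]
    exact fun x hx hx' => hne ((hWc c' x hx').2 c (hWc c x hx).1)
  refine ⟨⨆ c, W c, IsAffineOpen.iSup_of_disjoint hW fun c c' hne => hdisj c c' hne,
    isAffineHom_of_forall_exists_isAffineOpen _ fun x => ?_, ?_⟩
  · obtain ⟨i, hi, hxi⟩ := Set.mem_iUnion₂.1 (hs (Set.mem_univ x))
    refine ⟨A i, hxi, hA i, ?_⟩
    rw [← (⨆ c, W c).ι.isAffineOpen_iff_of_isOpenImmersion, Scheme.Hom.image_preimage_eq_opensRange_inf,
      Scheme.Opens.opensRange_ι]
    rw [show (⨆ c, W c) ⊓ A i = ⨆ c : {c : C // η c ∈ A i}, W c.1 from ?_]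
    · exact IsAffineOpen.iSup_of_disjoint (fun c => hW c.1) fun c c' hne => hdisj _ _ fun h => hne (Subtype.ext h)
    refine le_antisymm (fun y hy => ?_) (iSup_le fun c => le_inf (le_iSup W c.1) fun y hy =>
      Set.mem_iInter.1 (hWO c.1 hy).2 ⟨i, hi, c.2⟩)
    obtain ⟨c, hc⟩ := Opens.mem_iSup.1 hy.1
    exact Opens.mem_iSup.2 ⟨⟨c, ((specializes_iff_mem_closure.2 ((hη c).ge (hWc c y hc).1)).mem_open (A i).2 hy.2)⟩, hc⟩
  · rw [dense_iff_closure_eq, Set.eq_univ_iff_forall]
    intro x
    obtain ⟨c, hc⟩ := hcomp x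
    exact closure_mono (Set.singleton_subset_iff.2 (Opens.mem_iSup.2 ⟨c, hηW c⟩)) ((hη c).ge hc)

/-- A dense open meets every irreducible component. -/
theorem exists_mem_of_dense {α : Type*} [TopologicalSpace α] (hfin : (irreducibleComponents α).Finite) {D : Set α}
    (hD : D ∈ irreducibleComponents α) {U : Set α} (hU : Dense U) : ∃ y ∈ D, y ∈ U := by
  have hclosed : IsClosed (⋃₀ (irreducibleComponents α \ {D})) := by
    rw [Set.sUnion_eq_biUnion]
    exact (hfin.subset Set.diff_subset).isClosed_biUnion fun c hc => isClosed_of_mem_irreducibleComponents c hc.1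
  obtain ⟨y, hy, hy'⟩ : ∃ y ∈ D, y ∉ ⋃₀ (irreducibleComponents α \ {D}) := by
    by_contra! hne
    obtain ⟨c, hc, hDc⟩ := (isIrreducible_iff_sUnion_isClosed.1 hD.1) (hfin.subset Set.diff_subset).toFinset
      (fun c hc => isClosed_of_mem_irreducibleComponents c ((Set.Finite.mem_toFinset _).1 hc).1)
      (by rw [Set.Finite.coe_toFinset]; exact hne)
    rw [Set.Finite.mem_toFinset] at hc
    exact hc.2 (le_antisymm (hD.2 hc.1.1 hDc) hDc)
  obtain ⟨z, hzO, hzU⟩ := hU.inter_open_nonempty _ hclosed.isOpen_compl ⟨y, hy'⟩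
  obtain ⟨c, hc, hzc⟩ := Set.mem_sUnion.1 ((sUnion_irreducibleComponents (X := α)).ge (Set.mem_univ z))
  by_cases hcD : c = D
  · exact ⟨z, hcD ▸ hzc, hzU⟩
  · exact absurd ⟨c, ⟨hc, hcD⟩, hzc⟩ hzO

/-- Topological dimension drops on a nowhere dense closed subset. -/
theorem krullDim_le_of_nowhereDense {α β : Type*} [TopologicalSpace α] [TopologicalSpace β]
    (hfin : (irreducibleComponents α).Finite)
    {e : β → α} (he : Topology.IsClosedEmbedding e) (hd : Dense (Set.range e)ᶜ) {d : ℕ}
    (h : topologicalKrullDim α ≤ (d + 1 : ℕ)) : topologicalKrullDim β ≤ d := by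
  refine iSup_le fun p => ?_
  let q := p.map (IrreducibleCloseds.map e he.continuous) (IrreducibleCloseds.map_strictMono_of_isInducing he.isInducing)
  obtain ⟨D, hD, hsub⟩ := exists_mem_irreducibleComponents_subset_of_isIrreducible (q.last : Set α) q.last.isIrreducible
  let Z : IrreducibleCloseds α := ⟨D, hD.1, isClosed_of_mem_irreducibleComponents D hD⟩
  have hlt : q.last < Z := by
    refine lt_of_le_of_ne hsub fun heq => ?_
    have hDr : D ⊆ Set.range e := by
      refine (congrArg (fun z : IrreducibleCloseds α => (z : Set α)) heq).symm.subset.trans ?_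
      change closure (e '' (p.last : Set β)) ⊆ Set.range e
      exact he.isClosed_range.closure_subset_iff.2 (Set.image_subset_range _ _)
    obtain ⟨z, hz, hzr⟩ := exists_mem_of_dense hfin hD hd
    exact hzr (hDr hz)
  have h3 := (Order.LTSeries.length_le_krullDim (q.snoc Z hlt)).trans h
  have h4 : ((q.snoc Z hlt).length : ℕ) ≤ d + 1 := by exact_mod_cast h3
  have h5 : p.length ≤ d := by
    have : (q.snoc Z hlt).length = p.length + 1 := rfl
    omega
  exact_mod_cast h5

/-- Noetherian schemes of dimension at most `d`. -/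
theorem hasAffineStratification_of_dim : ∀ (d : ℕ) (X : Scheme.{u}) [IsNoetherian X],
    topologicalKrullDim X ≤ d → MoreMor.HasAffineStratification X d := by
  intro d
  induction d with
  | zero =>
    intro X _ hd
    have hfin : (irreducibleComponents ↥X).Finite := NoetherianSpace.finite_irreducibleComponents
    obtain ⟨U, hU, hUa, hUd⟩ := exists_dense_affine X hfin
    have htop : ⨆ _a : Fin 1, U = ⊤ := by
      rw [ciSup_const]
      refine top_le_iff.1 fun x _ => ?_
      by_contra hx
      have h0 : IsEmpty ((U : Set X)ᶜ : Set X) := by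
        rw [← not_nonempty_iff]
        intro hne
        obtain ⟨D, hD, hDx⟩ := exists_mem_irreducibleComponents_subset_of_isIrreducible (closure {x}) isIrreducible_singleton.closure
        let Z : IrreducibleCloseds X := ⟨D, hD.1, isClosed_of_mem_irreducibleComponents D hD⟩
        let Zx : IrreducibleCloseds X := ⟨closure {x}, isIrreducible_singleton.closure, isClosed_closure⟩
        have hlt : Zx < Z := by
          refine lt_of_le_of_ne hDx fun heq => ?_
          obtain ⟨y, hy⟩ : ∃ y ∈ D, y ∈ U := exists_mem_of_dense hfin hD hUd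
          have : y ∈ closure ({x} : Set X) := (congrArg (fun z : IrreducibleCloseds X => (z : Set X)) heq).ge hy.1
          exact hx ((specializes_iff_mem_closure.2 this).mem_open U.2 hy.2)
        have h3 := (Order.LTSeries.length_le_krullDim ((RelSeries.singleton _ Zx : LTSeries (IrreducibleCloseds X)).snoc Z hlt)).trans hd
        have h4 : ((RelSeries.singleton _ Zx : LTSeries (IrreducibleCloseds X)).snoc Z hlt).length ≤ 0 := by exact_mod_cast h3
        exact absurd h4 (by simp)
      exact h0.elim ⟨x, hx⟩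
    exact hasAffineStratification_of_seq 0 (fun _ => U) (fun _ => hU) htop fun a Z ι _ _ _ => by
      haveI : IsAffine X := by
        rw [ciSup_const] at htop
        haveI : IsAffine (⊤ : X.Opens) := htop ▸ hU
        exact .of_isIso (Scheme.topIso X).inv
      infer_instance
  | succ d ih =>
    intro X _ hd
    have hfin : (irreducibleComponents ↥X).Finite := NoetherianSpace.finite_irreducibleComponents
    obtain ⟨U, hU, hUa, hUd⟩ := exists_dense_affine X hfin
    let C' : Closeds X := ⟨(U : Set X)ᶜ, U.2.isClosed_compl⟩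
    let I := Scheme.IdealSheafData.vanishingIdeal C'
    have hr : Set.range I.subschemeι = (U : Set X)ᶜ := by
      rw [I.range_subschemeι, Scheme.IdealSheafData.coe_support_vanishingIdeal]; rfl
    haveI : IsLocallyNoetherian I.subscheme := LocallyOfFiniteType.isLocallyNoetherian I.subschemeι
    haveI : CompactSpace I.subscheme := QuasiCompact.compactSpace_of_compactSpace I.subschemeι
    haveI : IsNoetherian I.subscheme := {}
    refine hasAffineStratification_succ I.subschemeι (ih I.subscheme ?_) U hU hUa hr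
    refine krullDim_le_of_nowhereDense hfin I.subschemeι.isClosedEmbedding ?_ hd
    rw [hr, compl_compl]
    exact hUd

end AffStratLib

end
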