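import Mathlib
import Groth.Agent.AffStratLib.Basic
import Groth.Agent.RGFlatLib.StrictExists
import Groth.Agent.MiscFlat6.FTIdeal
import Groth.Agent.QCohLib.Extend
import Groth.Agent.QCohLib.Push
import Groth.Agent.DevissLib.KilledImm
import Groth.Agent.KFlatLib.QCohPull
import Groth.Agent.FiltSectLib.Stalks
import Groth.Agent.CohTopLib.ColimCoh

/-!
# Vanishing of cohomology above the affine stratification number
-/

set_option autoImplicit false

universe u

open CategoryTheory CategoryTheory.Limits AlgebraicGeometry TopologicalSpace Opposite Abelian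
open QCohLib (toAbF HU LocSub)

noncomputable section

namespace AffStratLib

variable {X : Scheme.{u}}

/-- the cohomology in degrees above `n` vanishes -/
def VanAbove (X : Scheme.{u}) (n : ℕ) : Prop :=
  ∀ (F : X.Modules), Coh.IsQCoh F → ∀ p, n < p → Subsingleton (Coh.HH X F p)

/-- the cohomology of a module in one degree vanishes -/
abbrev Van (F : X.Modules) (p : ℕ) : Prop := Subsingleton (HU ((toAbF X).obj F) p (⊤ : Opens X))

theorem van_iff (F : X.Modules) (p : ℕ) : Subsingleton (Coh.HH X F p) ↔ Van F p :=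
  QCohLib.subsingleton_H_iff _ p

theorem van_of_isZero {F : X.Modules} (h : IsZero F) (p : ℕ) : Van F p := by
  refine subsingleton_of_forall_eq 0 fun x => ?_
  rw [← Ext.comp_mk₀_id x, (IsZero.iff_id_eq_zero _).mp ((toAbF X).map_isZero h), Ext.mk₀_zero, Ext.comp_zero]

theorem van_of_iso {F G : X.Modules} (e : F ≅ G) (p : ℕ) (h : Van G p) : Van F p := by
  refine subsingleton_of_forall_eq 0 fun x => ?_
  have h1 : x = (x.comp (Ext.mk₀ ((toAbF X).map e.hom)) (add_zero p)).comp (Ext.mk₀ ((toAbF X).map e.inv)) (add_zero p) := by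
    rw [Ext.comp_assoc_of_third_deg_zero, Ext.mk₀_comp_mk₀, ← Functor.map_comp, e.hom_inv_id,
      CategoryTheory.Functor.map_id, Ext.comp_mk₀_id]
  rw [h1, @Subsingleton.elim _ h (x.comp (Ext.mk₀ ((toAbF X).map e.hom)) (add_zero p)) 0, Ext.zero_comp]

theorem subsingleton_X₂' {Y : TopCat.{u}} {T : ShortComplex (QCohLib.AbSh Y)} (hT : T.ShortExact) {p : ℕ} {U : Opens Y}
    [Subsingleton (HU T.X₁ p U)] [Subsingleton (HU T.X₃ p U)] : Subsingleton (HU T.X₂ p U) := by
  refine _root_.subsingleton_of_forall_eq 0 fun x => ?_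
  obtain ⟨y, rfl⟩ := Ext.covariant_sequence_exact₂ _ hT x (Subsingleton.elim _ _)
  rw [Subsingleton.elim y 0, Ext.zero_comp]

theorem van_two {S : ShortComplex X.Modules} (hS : S.ShortExact) {p : ℕ} (h1 : Van S.X₁ p) (h3 : Van S.X₃ p) :
    Van S.X₂ p := by
  haveI : Subsingleton (HU (S.map (toAbF X)).X₁ p ⊤) := h1
  haveI : Subsingleton (HU (S.map (toAbF X)).X₃ p ⊤) := h3
  exact subsingleton_X₂' (QCohLib.toAbF_shortExact hS)

theorem van_one {S : ShortComplex X.Modules} (hS : S.ShortExact) {p : ℕ} (h2 : Van S.X₂ (p + 1))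
    (h3 : Van S.X₃ p) : Van S.X₁ (p + 1) :=
  @QCohLib.subsingleton_X₁ _ _ (QCohLib.toAbF_shortExact hS) _ _ h2 h3

/-! ## Sections killed by a power of an ideal -/

theorem res_mem (E : X.IdealSheafData) {W W' : X.affineOpens} (h : W'.1 ≤ W.1) {r : Γ(X, W.1)} (hr : r ∈ E.ideal W) :
    X.presheaf.map (homOfLE h).op r ∈ E.ideal W' :=
  E.ideal_le_comap_ideal h hr

theorem smul_eq_zero_res (E : X.IdealSheafData) (K : X.Modules) {W W' : X.affineOpens} (h : W'.1 ≤ W.1)
    {a : Γ(K, W.1)} (ha : ∀ r ∈ E.ideal W, r • a = 0) :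
    ∀ r ∈ E.ideal W', r • K.presheaf.map (homOfLE h).op a = 0 := by
  intro r hr
  rw [← E.map_ideal (show W' ≤ W from h)] at hr
  induction hr using Submodule.span_induction with
  | mem r hr =>
    obtain ⟨b, hb, rfl⟩ := hr
    exact (K.map_smul (homOfLE h) b a).symm.trans ((congrArg _ (ha b hb)).trans (map_zero _))
  | zero => exact zero_smul _ _
  | add x y _ _ hx hy => exact (add_smul x y _).trans (by rw [hx, hy, add_zero])
  | smul c x _ hx => exact (mul_smul c x _).trans (by rw [hx, smul_zero])

variable (E : X.IdealSheafData) (K : X.Modules)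

/-- sections killed by an ideal -/
def annSub : LocSub K where
  mem V a := ∀ (W : X.affineOpens) (hW : W.1 ≤ V) (r : Γ(X, W.1)), r ∈ E.ideal W →
    r • K.presheaf.map (homOfLE hW).op a = 0
  zero V W hW r _ := by rw [map_zero, smul_zero]
  add {V a b} ha hb W hW r hr := by rw [map_add, smul_add, ha W hW r hr, hb W hW r hr, add_zero]
  smul {V} c {a} ha W hW r hr := by rw [K.map_smul, smul_comm, ha W hW r hr, smul_zero]
  res {V V'} h {a} ha W hW r hr := by
    rw [QCohLib.map_map']
    exact ha W (hW.trans h) r hr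
  local' {V} a h W hW r hr := by
    refine TopCat.Presheaf.IsSheaf.section_ext K.isSheaf fun x hx => ?_
    obtain ⟨U, hU, hxU, hmem⟩ := h x (hW hx)
    obtain ⟨W', hW', hxW', hle⟩ := exists_isAffineOpen_mem_and_subset (show x ∈ U ⊓ W.1 from ⟨hxU, hx⟩)
    refine ⟨W', fun y hy => (hle hy).2, hxW', ?_⟩
    have h1 := hmem ⟨W', hW'⟩ (fun y hy => (hle hy).1) _
      (res_mem E (W := W) (W' := ⟨W', hW'⟩) (fun y hy => (hle hy).2) hr)
    rw [QCohLib.map_map'] at h1
    rw [map_zero, K.map_smul, QCohLib.map_map']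
    exact h1

theorem annSub_mem_affine (W : X.affineOpens) (a : Γ(K, W.1)) (ha : ∀ r ∈ E.ideal W, r • a = 0) :
    (annSub E K).mem W.1 a := fun W' hW' r hr => smul_eq_zero_res E K hW' ha r hr

theorem smul_eq_zero_of_mem (W : X.affineOpens) {a : Γ(K, W.1)} (ha : (annSub E K).mem W.1 a) :
    ∀ r ∈ E.ideal W, r • a = 0 := fun r hr => by
  have h := ha W le_rfl r hr
  rwa [show homOfLE (le_refl W.1) = 𝟙 _ from rfl, op_id, CategoryTheory.Functor.map_id] at h

theorem isQCoh_annSub (hE : ∀ W, (E.ideal W).FG) [Coh.IsQCoh K] : Coh.IsQCoh (annSub E K).toModules := by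
  rw [QCohLib.isQCoh_iff_localizingAt]
  intro W hW g
  let S := annSub E K
  refine ⟨fun z => ?_, fun z hz => ?_⟩
  · obtain ⟨N, t, ht⟩ := (QCohLib.localizingAt_of_isQCoh hW K g).exists_extend (S.ι.app _ z)
    let WA : X.affineOpens := ⟨W, hW⟩
    let DA : X.affineOpens := ⟨X.basicOpen g, hW.basicOpen g⟩
    let B : Ideal Γ(X, W) := LinearMap.ker (LinearMap.toSpanSingleton Γ(X, W) Γ(K, W) t)
    have hmem : S.mem (X.basicOpen g) (K.presheaf.map (homOfLE (X.basicOpen_le g)).op t) :=
      ht ▸ S.smul _ (S.ι_app_mem z)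
    have key : ∀ r ∈ E.ideal WA, ∃ k : ℕ, g ^ k • (r • t) = 0 := fun r hr => by
      obtain ⟨k, hk⟩ := (QCohLib.localizingAt_of_isQCoh hW K g).eq_zero (r • t) (by
        rw [K.map_smul]
        exact smul_eq_zero_of_mem E K DA hmem _ (res_mem E (W := WA) (W' := DA) (X.basicOpen_le g) hr))
      refine ⟨k, Eq.trans ?_ hk⟩
      rw [show homOfLE (le_refl W) = 𝟙 _ from rfl, op_id, CategoryTheory.Functor.map_id]
      rfl
    obtain ⟨G, hG⟩ := hE WA
    choose k hk using fun r : G => key r.1 (hG.le (Submodule.subset_span r.2))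
    let M := Finset.univ.sup k
    have hM : (annSub E K).mem W (g ^ M • t) := by
      refine annSub_mem_affine E K WA _ fun r hr => ?_
      rw [← hG] at hr
      induction hr using Submodule.span_induction with
      | mem r hr =>
        obtain ⟨d, hd⟩ : ∃ d, M = d + k ⟨r, hr⟩ :=
          ⟨_, (Nat.sub_add_cancel (Finset.le_sup (f := k) (Finset.mem_univ ⟨r, hr⟩))).symm⟩
        rw [smul_comm, hd, pow_add, mul_smul, hk ⟨r, hr⟩, smul_zero]
      | zero => exact zero_smul _ _
      | add x y _ _ hx hy => exact (add_smul x y _).trans (by rw [hx, hy, add_zero])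
      | smul c x _ hx => exact (mul_smul c x _).trans (by rw [hx, smul_zero])
    refine ⟨M + N, S.lift _ hM, S.ι_app_injective _ ?_⟩
    rw [QCohLib.app_map, LocSub.ι_lift, QCohLib.app_smul, QCohLib.map_smul', ht, map_pow, ← mul_smul, ← pow_add]
  · obtain ⟨N, hN⟩ := (QCohLib.localizingAt_of_isQCoh hW K g).eq_zero (S.ι.app _ z)
      (by rw [← QCohLib.app_map, hz, map_zero])
    exact ⟨N, S.ι_app_injective _ (by rw [QCohLib.app_smul, hN, map_zero])⟩

variable {K} in
/-- inclusion of submodules -/
def incl (S T : LocSub K) (h : ∀ V a, S.mem V a → T.mem V a) : S.toModules ⟶ T.toModules :=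
  ⟨PresheafOfModules.homMk (M₁ := S.pmod) (M₂ := T.pmod)
    { app := fun V => AddCommGrpCat.ofHom (Submodule.inclusion
        (show S.sub V.unop ≤ T.sub V.unop from fun a ha => h V.unop a ha)).toAddMonoidHom
      naturality := fun _ _ _ => rfl }
    fun _ _ _ => rfl⟩

variable {K} in
theorem incl_ι (S T : LocSub K) (h : ∀ V a, S.mem V a → T.mem V a) : incl S T h ≫ T.ι = S.ι := rfl

theorem ideal_pow_succ (n : ℕ) (W : X.affineOpens) : (E ^ (n + 1)).ideal W = (E ^ n).ideal W * E.ideal W := by
  rw [Scheme.IdealSheafData.ideal_pow, Scheme.IdealSheafData.ideal_pow, Pi.pow_apply, Pi.pow_apply, pow_succ]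

theorem ideal_pow_succ_le (m : ℕ) (W : X.affineOpens) : (E ^ (m + 1)).ideal W ≤ (E ^ m).ideal W :=
  (ideal_pow_succ E m W).le.trans Ideal.mul_le_left

theorem annSub_mono (m : ℕ) (V : X.Opens) (a : Γ(K, V)) (ha : (annSub (E ^ m) K).mem V a) :
    (annSub (E ^ (m + 1)) K).mem V a :=
  fun W hW r hr => ha W hW r (ideal_pow_succ_le E m W hr)

theorem annSub_mono' {m k : ℕ} (h : m ≤ k) :
    ∀ (V : X.Opens) (a : Γ(K, V)), (annSub (E ^ m) K).mem V a → (annSub (E ^ k) K).mem V a := by
  induction h with
  | refl => exact fun V a h => h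
  | step _ ih => exact fun V a h => annSub_mono E K _ V a (ih V a h)

theorem isZero_annSub_zero : IsZero (annSub (E ^ 0) K).toModules := by
  rw [KFlatLib.isZero_iff_forall_stalk]
  intro x
  haveI : Subsingleton ((DerSch.stalkFunctor X x).obj (annSub (E ^ 0) K).toModules) := by
    refine subsingleton_of_forall_eq 0 fun y => ?_
    obtain ⟨W, hxW, s, rfl⟩ := TopCat.Presheaf.germ_exist (annSub (E ^ 0) K).toModules.presheaf y
    obtain ⟨V, hV, hxV, hVW⟩ := exists_isAffineOpen_mem_and_subset hxW
    have h0 : (annSub (E ^ 0) K).toModules.presheaf.map (homOfLE (show V ≤ W from hVW)).op s = 0 := by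
      refine LocSub.ι_app_injective _ V ?_
      rw [map_zero]
      exact (one_smul Γ(X, V) _).symm.trans (smul_eq_zero_of_mem (E ^ 0) K ⟨V, hV⟩ (LocSub.ι_app_mem _ _) 1 (by
        rw [Scheme.IdealSheafData.ideal_pow, Pi.pow_apply, pow_zero, Ideal.one_eq_top]; trivial))
    exact ((TopCat.Presheaf.germ_res_apply _ (homOfLE (show V ≤ W from hVW)) x hxV s).symm.trans
      (congrArg _ h0)).trans (map_zero _)
  exact ModuleCat.isZero_of_subsingleton _

theorem ideal_fg_pow (hE : ∀ W, (E.ideal W).FG) (m : ℕ) (W : X.affineOpens) : ((E ^ m).ideal W).FG := by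
  rw [Scheme.IdealSheafData.ideal_pow, Pi.pow_apply]
  exact (hE W).pow

theorem van_annSub {n : ℕ} (hE : ∀ W, (E.ideal W).FG) (hsub : VanAbove E.subscheme n) [Coh.IsQCoh K] :
    ∀ (m : ℕ) (p : ℕ), n < p → Van (annSub (E ^ m) K).toModules p := by
  intro m
  induction m with
  | zero => exact fun p _ => van_of_isZero (isZero_annSub_zero E K) p
  | succ m ih =>
    intro p hp
    let S₀ := annSub (E ^ m) K
    let S₁ := annSub (E ^ (m + 1)) K
    let φ := incl S₀ S₁ (annSub_mono E K m)
    haveI : Mono φ := mono_of_mono_fac (incl_ι S₀ S₁ (annSub_mono E K m))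
    haveI : Coh.IsQCoh S₀.toModules := isQCoh_annSub _ K (ideal_fg_pow E hE m)
    haveI : Coh.IsQCoh S₁.toModules := isQCoh_annSub _ K (ideal_fg_pow E hE (m + 1))
    let T : ShortComplex X.Modules := ShortComplex.mk φ (cokernel.π φ) (cokernel.condition φ)
    have hT : T.ShortExact :=
      { exact := ShortComplex.exact_of_g_is_cokernel _ (cokernelIsCokernel φ)
        mono_f := ‹Mono φ›
        epi_g := inferInstanceAs (Epi (cokernel.π φ)) }
    haveI : Coh.IsQCoh T.X₁ := ‹Coh.IsQCoh S₀.toModules›
    haveI : Coh.IsQCoh (cokernel φ) := QCohLib.isQCoh_cokernel φ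
    have hk : ClSub.KilledByIdeal E.subschemeι.ker (cokernel φ) := by
      rw [Scheme.IdealSheafData.ker_subschemeι]
      intro W r hr q
      obtain ⟨a, rfl⟩ := QCohLib.app_surjective_of_affine hT W.2 q
      have hmem : S₀.mem W.1 (r • S₁.ι.app W.1 a) := by
        refine annSub_mem_affine _ K W _ fun c hc => ?_
        rw [← mul_smul]
        refine smul_eq_zero_of_mem _ K W (S₁.ι_app_mem a) _ ?_
        rw [ideal_pow_succ]
        exact Ideal.mul_mem_mul hc hr
      have h1 : r • a = φ.app W.1 (S₀.lift _ hmem) := S₁.ι_app_injective _ (by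
        rw [QCohLib.app_smul]; rfl)
      change r • (cokernel.π φ).app W.1 a = 0
      rw [← QCohLib.app_smul, h1]
      exact ((congr($(cokernel.condition φ).app W.1 (S₀.lift _ hmem))).trans rfl)
    haveI := DevissLib.isIso_unit_of_killed E.subschemeι hk
    refine van_two hT (ih p hp) ?_
    refine van_of_iso (asIso ((Scheme.Modules.pullbackPushforwardAdjunction E.subschemeι).unit.app (cokernel φ))) p ?_
    let G := (Scheme.Modules.pullback E.subschemeι).obj (cokernel φ)
    haveI : Coh.IsQCoh G := KFlatLib.isQCoh_pullback E.subschemeι _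
    obtain ⟨e⟩ := QCohLib.nonempty_HH_push E.subschemeι G p
    haveI := hsub G inferInstance p hp
    exact (van_iff _ p).1 e.symm.injective.subsingleton

/-- Modules supported on the closed subscheme. -/
theorem van_of_supported {n : ℕ} [CompactSpace X] [QuasiSeparatedSpace X] (hE : ∀ W, (E.ideal W).FG)
    (hsub : VanAbove E.subscheme n) [Coh.IsQCoh K]
    (hsupp : ∀ V : X.Opens, V ≤ ModPair.interior E → ∀ s : Γ(K, V), s = 0) (p : ℕ) (hp : n < p) :
    Van K p := by
  let D : ULift.{u} ℕ ⥤ X.Modules :=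
    { obj := fun m => (annSub (E ^ m.down) K).toModules
      map := fun {a b} f => incl _ _ (annSub_mono' E K (show a.down ≤ b.down from f.le))
      map_id := fun a => rfl
      map_comp := fun f g => rfl }
  let c : Cocone D :=
    { pt := K
      ι := { app := fun m => (annSub (E ^ m.down) K).ι
             naturality := fun a b f => by
               refine Eq.trans ?_ (Category.comp_id _).symm
               exact incl_ι _ _ (annSub_mono' E K (show a.down ≤ b.down from f.le)) } }
  obtain ⟨hc⟩ := FiltSectLib.isColimit_of_stalks c fun x => by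
    refine ⟨isColimitOfReflects (CategoryTheory.forget _) (Types.FilteredColimit.isColimitOf _ _ (fun y => ?_)
      fun i j a b hab => ?_)⟩
    · obtain ⟨W, hxW, s, rfl⟩ := TopCat.Presheaf.germ_exist K.presheaf (y : K.presheaf.stalk x)
      obtain ⟨V, hV, hxV, hVW⟩ := exists_isAffineOpen_mem_and_subset hxW
      let t := K.presheaf.map (homOfLE (show V ≤ W from hVW)).op s
      obtain ⟨m, hm⟩ := (RGFlatLib.killed_iff_res_interior (fun W => hE W) K ⟨V, hV⟩ t
        (ModPair.interior E ⊓ V) inf_le_right fun x => ⟨fun hx => ⟨hx.2, hx.1⟩, fun hx => ⟨hx.2, hx.1⟩⟩).2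
        (hsupp _ inf_le_left _)
      let z := (annSub (E ^ m) K).lift t (annSub_mem_affine _ K ⟨V, hV⟩ t hm)
      refine ⟨⟨m⟩, ((annSub (E ^ m) K).toModules.presheaf.germ V x hxV).hom z, ?_⟩
      refine Eq.symm ?_
      exact (DerSch.stalkFunctor_map_germ x (annSub (E ^ m) K).ι V hxV z).trans
        (TopCat.Presheaf.germ_res_apply K.presheaf (homOfLE (show V ≤ W from hVW)) x hxV s)
    · let k := IsFiltered.max i j
      refine ⟨k, IsFiltered.leftToMax i j, IsFiltered.rightToMax i j, ?_⟩
      haveI : Mono (c.ι.app k) := inferInstanceAs (Mono (annSub (E ^ k.down) K).ι)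
      refine (ModuleCat.mono_iff_injective ((DerSch.stalkFunctor X x).map (c.ι.app k))).1 inferInstance ?_
      change ((DerSch.stalkFunctor X x).map (D.map (IsFiltered.leftToMax i j)) ≫
        (DerSch.stalkFunctor X x).map (c.ι.app k)) a = ((DerSch.stalkFunctor X x).map (D.map (IsFiltered.rightToMax i j)) ≫
        (DerSch.stalkFunctor X x).map (c.ι.app k)) b
      rw [← Functor.map_comp, ← Functor.map_comp, c.w, c.w]
      exact hab
  refine subsingleton_of_forall_eq 0 fun z => ?_
  haveI : CompactSpace X.toTopCat := ‹CompactSpace X›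
  haveI : QuasiSeparatedSpace X.toTopCat := ‹QuasiSeparatedSpace X›
  haveI : PrespectralSpace X.toTopCat := inferInstanceAs (PrespectralSpace X)
  obtain ⟨i, y, rfl⟩ := (CohTopLib.ColimCoh.prop₁ (⊤ : Opens X.toTopCat) isCompact_univ p (D ⋙ toAbF X)
    ((toAbF X).mapCocone c) (isColimitOfPreserves (toAbF X) hc)).1 z
  rw [@Subsingleton.elim _ (van_annSub E K hE hsub i.down p hp) y 0, Ext.zero_comp]

/-! ## The induction -/

theorem bijective_map_of_eq (F : X.Modules) {W V : X.Opens} (h : W ≤ V) (e : W = V) :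
    Function.Bijective (F.presheaf.map (homOfLE h).op) := by
  subst e
  rw [show homOfLE h = 𝟙 W from rfl, op_id, CategoryTheory.Functor.map_id]
  exact Function.bijective_id


theorem vanAbove_of_affineStratification : ∀ (n : ℕ) (X : Scheme.{u}),
    MoreMor.HasAffineStratification X n → VanAbove X n := by
  intro n
  induction n with
  | zero =>
    intro X h F hF p hp
    obtain ⟨U, hU, -, htop, -⟩ := exists_top_stratum h
    haveI : IsAffine (⊤ : X.Opens) := htop rfl ▸ hU
    haveI : IsAffine X := .of_isIso (Scheme.topIso X).inv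
    exact QCohLib.subsingleton_HH_affine F p hp
  | succ n ih =>
    intro X h F hF p hp
    obtain ⟨U, hU, hUa, -, hrest⟩ := exists_top_stratum h
    haveI := compactSpace h
    haveI := quasiSeparatedSpace h
    obtain ⟨E, hE, hsupp⟩ := MiscFlat6.exists_finiteType_idealSheaf U hU.isCompact
    have hr : Set.range E.subschemeι = (U : Set X)ᶜ := by rw [E.range_subschemeι]; exact hsupp
    have hsub : VanAbove E.subscheme n := ih _ (hrest n rfl _ E.subschemeι inferInstance hr)
    have hint : ModPair.interior E = U := Opens.ext (by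
      change (E.support : Set X)ᶜ = _
      rw [hsupp, compl_compl])
    haveI : Coh.IsQCoh F := hF
    haveI := hUa
    let η := (Scheme.Modules.restrictAdjunction U.ι).unit.app F
    let G := (Scheme.Modules.pushforward U.ι).obj (F.restrict U.ι)
    haveI : Coh.IsQCoh (F.restrict U.ι) := Scheme.Modules.isQuasicoherent_restrictFunctor U.ι F
    haveI : Coh.IsQCoh G := QCohLib.isQCoh_pushforward U.ι _
    have hbij : ∀ V : X.Opens, V ≤ U → Function.Bijective (η.app V) := fun V hV => by
      have e : U.ι ''ᵁ (U.ι ⁻¹ᵁ V) = V := by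
        rw [Scheme.Hom.image_preimage_eq_opensRange_inf, Scheme.Opens.opensRange_ι, inf_eq_right.2 hV]
      rw [show η.app V = F.presheaf.map (homOfLE (U.ι.image_preimage_le V)).op from
        Scheme.Modules.restrictAdjunction_unit_app_app U.ι F V]
      exact bijective_map_of_eq F (U.ι.image_preimage_le V) e
    let A : X.Modules := kernel η
    let B : X.Modules := cokernel η
    let M : X.Modules := Abelian.image η
    haveI : Coh.IsQCoh ((𝟭 X.Modules).obj F) := hF
    haveI : Coh.IsQCoh ((Scheme.Modules.restrictFunctor U.ι ⋙ Scheme.Modules.pushforward U.ι).obj F) := ‹Coh.IsQCoh G›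
    haveI hA : Coh.IsQCoh A := QCohLib.isQCoh_kernel η
    haveI hB : Coh.IsQCoh B := QCohLib.isQCoh_cokernel η
    haveI hM : Coh.IsQCoh M := QCohLib.isQCoh_image η
    let S₁ : ShortComplex X.Modules := ShortComplex.mk (kernel.ι η) (Abelian.factorThruImage η) (by
      rw [← cancel_mono (Abelian.image.ι η), Category.assoc, Abelian.image.fac, kernel.condition, zero_comp])
    have hS₁ : S₁.ShortExact :=
      { exact := ShortComplex.exact_of_f_is_kernel _ (KernelFork.IsLimit.ofι' _ _ fun {T} k hk =>
          ⟨kernel.lift η k (by rw [← Abelian.image.fac η, ← Category.assoc, hk, zero_comp]), kernel.lift_ι _ _ _⟩)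
        mono_f := inferInstanceAs (Mono (kernel.ι η))
        epi_g := inferInstanceAs (Epi (Abelian.factorThruImage η)) }
    let S₂ : ShortComplex X.Modules := ShortComplex.mk (Abelian.image.ι η) (cokernel.π η) (kernel.condition _)
    have hS₂ : S₂.ShortExact :=
      { exact := ShortComplex.exact_of_f_is_kernel _ (kernelIsKernel (cokernel.π η))
        mono_f := inferInstanceAs (Mono (kernel.ι (cokernel.π η)))
        epi_g := inferInstanceAs (Epi (cokernel.π η)) }
    have hG : Van G p := by
      haveI : IsAffine (U : Scheme.{u}) := hU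
      obtain ⟨e⟩ := QCohLib.nonempty_HH_push U.ι (F.restrict U.ι) p
      haveI := QCohLib.subsingleton_HH_affine (F.restrict U.ι) p (by omega)
      exact (van_iff _ p).1 e.symm.injective.subsingleton
    have hAv : Van A p := by
      refine van_of_supported E A hE hsub (fun V hV s => ?_) p (by omega)
      rw [hint] at hV
      refine QCohLib.app_injective_of_mono (kernel.ι η) V ?_
      rw [map_zero]
      refine (hbij V hV).1 (Eq.trans ?_ (map_zero _).symm)
      exact (congr($(kernel.condition η).app V s)).trans rfl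
    have hBv : ∀ q, n < q → Van B q := fun q hq => by
      refine van_of_supported E B hE hsub (fun V hV s => ?_) q hq
      rw [hint] at hV
      refine TopCat.Presheaf.IsSheaf.section_ext B.isSheaf fun x hx => ?_
      obtain ⟨W, hW, hxW, hWV⟩ := exists_isAffineOpen_mem_and_subset hx
      refine ⟨W, hWV, hxW, ?_⟩
      rw [map_zero]
      haveI : Coh.IsQCoh S₂.X₁ := hM
      obtain ⟨g, hg⟩ := QCohLib.app_surjective_of_affine hS₂ hW (B.presheaf.map (homOfLE (show W ≤ V from hWV)).op s)
      obtain ⟨f, rfl⟩ := (hbij W (le_trans hWV hV)).2 g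
      rw [← hg]
      exact (congr($(cokernel.condition η).app W f)).trans rfl
    obtain ⟨q, rfl⟩ : ∃ q, p = q + 1 := ⟨p - 1, by omega⟩
    exact (van_iff _ _).2 (van_two hS₁ hAv (van_one hS₂ hG (hBv q (by omega))))

end AffStratLib

end
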